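import Groth.Agent.Alg.Cartier.Index
import Groth.Agent.Alg.PBasis.SmoothIff
import Mathlib.RingTheory.Etale.Kaehler
import Mathlib.RingTheory.Kaehler.Polynomial
import Mathlib.RingTheory.Smooth.Kaehler
import Mathlib.RingTheory.AlgebraicIndependent.TranscendenceBasis
import Mathlib.RingTheory.EssentialFiniteness
import Mathlib.FieldTheory.IntermediateField.Adjoin.Algebra
import Mathlib.RingTheory.Localization.FractionRing
import Mathlib.Algebra.Exact.Basic
import Mathlib.Algebra.Field.ULift
import Mathlib.Algebra.Field.ZMod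
import Mathlib.Algebra.Algebra.Rat

/-! Cartier's equality: the index of `L ⊗ Ω_{K/k} → Ω_{L/k}` is the transcendence degree. -/

open TensorProduct

universe v u

namespace Groth.Agent.Alg.Cartier

variable (k : Type v) [CommRing k]

/-- Presentations of fields smooth over fields have injective conormal maps over `k`. -/
def Sharp : Prop :=
  ∀ (K B M : Type u) [Field K] [CommRing B] [Field M] [Algebra k K] [Algebra k B] [Algebra K B]
    [IsScalarTower k K B] [Algebra B M] [Algebra.FormallySmooth K B],
    Function.Surjective (algebraMap B M) → Function.Injective (KaehlerDifferential.kerCotangentToTensor k B M)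

/-- Index and transcendence degree of an extension. -/
def Good (K L : Type u) [Field K] [Field L] [Algebra k K] [Algebra k L] [Algebra K L]
    [IsScalarTower k K L] : Prop :=
  ∃ (n : ℤ) (t : ℕ), HasIndex (KaehlerDifferential.mapBaseChange k K L) n ∧ Algebra.trdeg K L = t ∧
    (t : ℤ) ≤ n ∧ (Sharp.{v, u} k → n = t)

theorem map_map {A B C : Type u} [CommRing A] [CommRing B] [CommRing C] [Algebra k A] [Algebra k B]
    [Algebra k C] [Algebra A B] [Algebra A C] [Algebra B C] [IsScalarTower k A B] [IsScalarTower k A C]
    [IsScalarTower k B C] [IsScalarTower A B C] (ω : Ω[A⁄k]) :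
    KaehlerDifferential.map k k A C ω = KaehlerDifferential.map k k B C (KaehlerDifferential.map k k A B ω) := by
  have := KaehlerDifferential.span_range_derivation k A
  induction (this ▸ Submodule.mem_top : ω ∈ Submodule.span A (Set.range (KaehlerDifferential.D k A)))
    using Submodule.span_induction with
  | mem x hx =>
    obtain ⟨a, rfl⟩ := hx
    simp [← IsScalarTower.algebraMap_apply]
  | zero => simp
  | add x y _ _ hx hy => simp [hx, hy]
  | smul a x _ hx => simp [hx]

section

variable {K L M : Type u} [Field K] [Field L] [Field M] [Algebra k K] [Algebra k L] [Algebra k M]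
  [Algebra K L] [Algebra K M] [Algebra M L] [IsScalarTower k K L] [IsScalarTower k K M]
  [IsScalarTower k M L] [IsScalarTower K M L]

theorem Good.trans (h1 : Good k K M) (h2 : Good k M L) : Good k K L := by
  obtain ⟨n, t, hn, ht, hle, heq⟩ := h1
  obtain ⟨n', t', hn', ht', hle', heq'⟩ := h2
  refine ⟨n + n', t + t', ?_, ?_, by omega, fun hs => by rw [heq hs, heq' hs]; norm_num⟩
  · let φ := (KaehlerDifferential.mapBaseChange k K M).baseChange L
    let c := (TensorProduct.AlgebraTensorModule.cancelBaseChange K M L L Ω[K⁄k]).symm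
    have h : KaehlerDifferential.mapBaseChange k K L =
        KaehlerDifferential.mapBaseChange k M L ∘ₗ φ ∘ₗ c.toLinearMap := by
      refine TensorProduct.AlgebraTensorModule.ext fun l ω => ?_
      simp [φ, c, KaehlerDifferential.mapBaseChange_tmul, map_map k (A := K) (B := M) (C := L) ω]
    rw [h]
    simpa using hasIndex_comp (hasIndex_comp (hasIndex_equiv c) (hasIndex_baseChange hn)) hn'
  · rw [← trdeg_add_eq K M, ht, ht', Nat.cast_add]

theorem good_of_bijective (h : Function.Bijective (algebraMap K L)) : Good k K L := by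
  have : Algebra.FormallyEtale K L := .of_equiv (AlgEquiv.ofBijective (Algebra.ofId K L) h)
  have : Algebra.IsAlgebraic K L := ⟨fun l => by
    obtain ⟨x, rfl⟩ := h.2 l; exact isAlgebraic_algebraMap x⟩
  exact ⟨0, 0, hasIndex_equiv (KaehlerDifferential.tensorKaehlerEquivOfFormallyEtale k K L),
    by rw [trdeg_eq_zero, Nat.cast_zero], le_rfl, fun _ => rfl⟩

end

section Simple

open Polynomial

variable {K M : Type u} [Field K] [Field M] [Algebra k K] [Algebra k M] [Algebra K M] [IsScalarTower k K M]

/-- The map `M ⊗_K Ω_{K/k} → M ⊗_{K[X]} Ω_{K[X]/k}` has index one. -/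
theorem index_iota [Algebra K[X] M] [IsScalarTower K K[X] M] :
    HasIndex (((KaehlerDifferential.mapBaseChange k K K[X]).baseChange M) ∘ₗ
      (TensorProduct.AlgebraTensorModule.cancelBaseChange K K[X] M M Ω[K⁄k]).symm.toLinearMap) 1 := by
  have h1 : HasIndex ((TensorProduct.AlgebraTensorModule.cancelBaseChange K K[X] M M Ω[K⁄k]).symm.toLinearMap) 0 :=
    hasIndex_equiv _
  let μ := KaehlerDifferential.mapBaseChange k K K[X]
  let ν := KaehlerDifferential.map k K K[X] K[X]
  have hex : Function.Exact μ ν := KaehlerDifferential.exact_mapBaseChange_map k K K[X]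
  have hinj : Function.Injective μ := PBasis.mapBaseChange_injective k K K[X]
  have : Module.Free K[X] (Ω[K[X]⁄K]) := .of_equiv (KaehlerDifferential.polynomialEquiv K).symm
  have hsurj : Function.Surjective ν := KaehlerDifferential.map_surjective k K K[X]
  obtain ⟨s, hs⟩ := Module.projective_lifting_property ν LinearMap.id hsurj
  obtain ⟨e, he1, -⟩ := hex.splitSurjectiveEquiv hinj ⟨s, hs⟩
  let r : Ω[K[X]⁄k] →ₗ[K[X]] K[X] ⊗[K] Ω[K⁄k] := (LinearMap.fst _ _ _) ∘ₗ e.toLinearMap
  have hr : r ∘ₗ μ = LinearMap.id := by
    refine LinearMap.ext fun x => ?_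
    have h3 : μ x = e.symm (x, 0) := DFunLike.congr_fun he1 x
    change (e (μ x)).1 = x
    rw [h3, LinearEquiv.apply_symm_apply]
  have hinjM : Function.Injective (μ.baseChange M) :=
    Function.LeftInverse.injective (g := r.baseChange M) fun x => by
      rw [← LinearMap.comp_apply, ← LinearMap.baseChange_comp, hr, LinearMap.baseChange_id, LinearMap.id_apply]
  have hexM : Function.Exact (μ.baseChange M) (ν.baseChange M) := lTensor_exact M hex hsurj
  have hsM : Function.Surjective (ν.baseChange M) := LinearMap.lTensor_surjective M hsurj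
  let e₂ : ((M ⊗[K[X]] Ω[K[X]⁄k]) ⧸ LinearMap.range (μ.baseChange M)) ≃ₗ[M] M :=
    (Submodule.quotEquivOfEq _ _ (LinearMap.exact_iff.mp hexM).symm).trans
      ((LinearMap.quotKerEquivOfSurjective _ hsM).trans
        ((TensorProduct.AlgebraTensorModule.congr (LinearEquiv.refl M M)
          (KaehlerDifferential.polynomialEquiv K)).trans (TensorProduct.AlgebraTensorModule.rid K[X] M M)))
  have h2 : HasIndex (μ.baseChange M) 1 := by
    refine ⟨by rw [LinearMap.ker_eq_bot.mpr hinjM]; infer_instance, Module.Finite.equiv e₂.symm, ?_⟩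
    rw [e₂.finrank_eq, LinearMap.ker_eq_bot.mpr hinjM, Module.finrank_self, finrank_bot]
    norm_num
  simpa using hasIndex_comp h1 h2

theorem factor [Algebra K[X] M] [IsScalarTower K K[X] M] [IsScalarTower k K[X] M] :
    KaehlerDifferential.mapBaseChange k K M = KaehlerDifferential.mapBaseChange k K[X] M ∘ₗ
      (((KaehlerDifferential.mapBaseChange k K K[X]).baseChange M) ∘ₗ
      (TensorProduct.AlgebraTensorModule.cancelBaseChange K K[X] M M Ω[K⁄k]).symm.toLinearMap) := by
  refine TensorProduct.AlgebraTensorModule.ext fun l ω => ?_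
  simp [KaehlerDifferential.mapBaseChange_tmul, map_map k (A := K) (B := K[X]) (C := M) ω]

set_option backward.isDefEq.respectTransparency false in
theorem good_transcendental (α : M) (hα : Transcendental K α) (hgen : IntermediateField.adjoin K {α} = ⊤) :
    Good k K M := by
  letI : Algebra K[X] M := (aeval (R := K) α).toRingHom.toAlgebra
  haveI : IsScalarTower K K[X] M := IsScalarTower.of_algebraMap_eq fun x => (aeval_C α x).symm
  haveI : IsScalarTower k K[X] M := IsScalarTower.of_algebraMap_eq fun x => by
    rw [IsScalarTower.algebraMap_apply k K M, IsScalarTower.algebraMap_apply k K K[X]]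
    exact (aeval_C α _).symm
  haveI : FaithfulSMul K[X] M := (faithfulSMul_iff_algebraMap_injective _ _).mpr (transcendental_iff_injective.mp hα)
  haveI : IsFractionRing K[X] M := IsFractionRing.of_field _ _ fun z => by
    obtain ⟨r, s, h⟩ := IntermediateField.mem_adjoin_simple_iff (F := K) z |>.mp (hgen ▸ IntermediateField.mem_top)
    exact ⟨r, s, h⟩
  haveI : Algebra.FormallyEtale K[X] M := .of_isLocalization (nonZeroDivisors K[X])
  haveI : Algebra.IsAlgebraic K[X] M := IsLocalization.isAlgebraic M (nonZeroDivisors K[X])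
  refine ⟨1, 1, ?_, ?_, le_rfl, fun _ => rfl⟩
  · rw [factor k (K := K) (M := M)]
    have h := hasIndex_comp (index_iota k (K := K) (M := M))
      (hasIndex_equiv (KaehlerDifferential.tensorKaehlerEquivOfFormallyEtale k K[X] M))
    rw [add_zero] at h
    exact h
  · rw [← trdeg_add_eq K K[X], Polynomial.trdeg_of_isDomain, trdeg_eq_zero, Nat.cast_one, add_zero]

set_option backward.isDefEq.respectTransparency false in
theorem good_algebraic (α : M) (hα : IsAlgebraic K α) (hgen : IntermediateField.adjoin K {α} = ⊤) :
    Good k K M := by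
  letI : Algebra K[X] M := (aeval (R := K) α).toRingHom.toAlgebra
  haveI : IsScalarTower K K[X] M := IsScalarTower.of_algebraMap_eq fun x => (aeval_C α x).symm
  haveI : IsScalarTower k K[X] M := IsScalarTower.of_algebraMap_eq fun x => by
    rw [IsScalarTower.algebraMap_apply k K M, IsScalarTower.algebraMap_apply k K K[X]]
    exact (aeval_C α _).symm
  have hsurj : Function.Surjective (algebraMap K[X] M) := fun z => by
    have h1 : (IntermediateField.adjoin K {α}).toSubalgebra = ⊤ := by rw [hgen]; rfl
    rw [IntermediateField.adjoin_simple_toSubalgebra_of_isAlgebraic hα, Algebra.adjoin_singleton_eq_range_aeval] at h1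
    exact (h1.ge (Algebra.mem_top (x := z)))
  let f := minpoly K α
  let v : M ⊗[K[X]] Ω[K[X]⁄k] := 1 ⊗ₜ KaehlerDifferential.D k K[X] f
  let q := KaehlerDifferential.mapBaseChange k K[X] M
  have hf : f ∈ RingHom.ker (algebraMap K[X] M) := minpoly.aeval K α
  have hker : LinearMap.ker q = Submodule.span M {v} := by
    have hex := KaehlerDifferential.exact_kerCotangentToTensor_mapBaseChange k K[X] M hsurj
    refine le_antisymm (fun z hz => ?_) ((Submodule.span_singleton_le_iff_mem _ _).mpr
      ((hex v).mpr ⟨(RingHom.ker (algebraMap K[X] M)).toCotangent ⟨f, hf⟩, rfl⟩))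
    obtain ⟨y, rfl⟩ := (hex z).mp hz
    obtain ⟨⟨g, hg⟩, rfl⟩ := Ideal.toCotangent_surjective _ y
    obtain ⟨w, rfl⟩ := minpoly.dvd K α (hg : aeval α g = 0)
    refine Submodule.mem_span_singleton.mpr ⟨algebraMap K[X] M w, ?_⟩
    rw [show (⟨f * w, hg⟩ : RingHom.ker (algebraMap K[X] M)) = w • ⟨f, hf⟩ from Subtype.ext (mul_comm f w),
      map_smul, map_smul, KaehlerDifferential.kerCotangentToTensor_toCotangent, algebraMap_smul]
  have hqs : Function.Surjective q := KaehlerDifferential.mapBaseChange_surjective k K[X] M hsurj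
  let d := Module.finrank M (LinearMap.ker q)
  have hq : HasIndex q (-(d : ℤ)) := by
    refine ⟨?_, ?_, ?_⟩
    · rw [hker]; exact Module.Finite.span_singleton M v
    · rw [LinearMap.range_eq_top.mpr hqs]; infer_instance
    · rw [LinearMap.range_eq_top.mpr hqs, Module.finrank_zero_of_subsingleton]
      simp [d]
  have hd : d ≤ 1 := by
    simp only [d]
    rw [hker]
    exact (finrank_span_le_card ({v} : Set (M ⊗[K[X]] Ω[K[X]⁄k]))).trans (by simp)
  haveI : Algebra.IsAlgebraic K M := by
    have := IntermediateField.isAlgebraic_adjoin_simple hα.isIntegral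
    rw [hgen] at this
    exact IntermediateField.topEquiv.isAlgebraic
  refine ⟨1 + -(d : ℤ), 0, ?_, by rw [trdeg_eq_zero, Nat.cast_zero], by omega, fun hs => ?_⟩
  · rw [factor k (K := K) (M := M)]
    exact hasIndex_comp (index_iota k) hq
  · have hv : v ≠ 0 := by
      intro h0
      have h1 : (RingHom.ker (algebraMap K[X] M)).toCotangent ⟨f, hf⟩ = 0 :=
        hs K K[X] M hsurj (h0.trans (map_zero _).symm)
      rw [Ideal.toCotangent_eq_zero] at h1
      change f ∈ RingHom.ker (algebraMap K[X] M) ^ 2 at h1
      have hI : RingHom.ker (algebraMap K[X] M) = Ideal.span {f} := by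
        ext g
        rw [Ideal.mem_span_singleton]
        exact minpoly.dvd_iff.symm
      rw [hI, Ideal.span_singleton_pow, Ideal.mem_span_singleton] at h1
      obtain ⟨g, hg⟩ := h1
      have hirr := minpoly.irreducible hα.isIntegral
      refine hirr.not_isUnit (IsUnit.of_mul_eq_one g ?_)
      refine mul_left_cancel₀ (minpoly.ne_zero hα.isIntegral) ?_
      change f * (f * g) = f * 1
      rw [mul_one, ← mul_assoc, ← sq]
      exact hg.symm
    have : d = 1 := by simp only [d]; rw [hker]; exact finrank_span_singleton hv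
    omega

end Simple

end Groth.Agent.Alg.Cartier

namespace Groth.Agent.Alg.Cartier

open IntermediateField

theorem good_simple (k : Type v) [CommRing k] {K M : Type u} [Field K] [Field M] [Algebra k K] [Algebra k M]
    [Algebra K M] [IsScalarTower k K M] (α : M) (hgen : IntermediateField.adjoin K {α} = ⊤) : Good k K M := by
  by_cases hα : IsAlgebraic K α
  · exact good_algebraic k α hα hgen
  · exact good_transcendental k α hα hgen

theorem good_of_essFiniteType (k : Type v) [CommRing k] (K L : Type u) [Field K] [Field L] [Algebra k K]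
    [Algebra k L] [Algebra K L] [IsScalarTower k K L] [Algebra.EssFiniteType K L] : Good k K L := by
  haveI htower : ∀ E : IntermediateField K L, IsScalarTower k E L := fun E =>
    ⟨fun a b c => by simp [IntermediateField.smul_def, smul_mul_assoc]⟩
  have key : ∀ E : IntermediateField K L, E.FG → Good k K E := by
    intro E hE
    refine IntermediateField.induction_on_adjoin_fg (fun E => Good k K E) ?_ (fun E x hEx => ?_) E hE
    · refine good_of_bijective k ⟨(algebraMap K (⊥ : IntermediateField K L)).injective, fun z => ?_⟩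
      obtain ⟨a, ha⟩ := IntermediateField.mem_bot.mp z.2
      exact ⟨a, Subtype.ext ha⟩
    · have h2 : Good k E E⟮x⟯ := by
        refine good_simple k (⟨x, IntermediateField.mem_adjoin_simple_self _ x⟩ : E⟮x⟯) ?_
        apply IntermediateField.map_injective (E⟮x⟯).val
        rw [IntermediateField.adjoin_map, ← AlgHom.fieldRange_eq_map, IntermediateField.fieldRange_val,
          Set.image_singleton]
        rfl
      haveI : IsScalarTower k K E⟮x⟯ := ⟨fun a b c => Subtype.ext (smul_assoc a b (c : L))⟩
      change Good k K E⟮x⟯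
      exact Good.trans k hEx h2
  have h := key ⊤ (IntermediateField.fg_top_iff.mpr inferInstance)
  refine Good.trans k h (good_of_bijective k ?_)
  exact ⟨(algebraMap (⊤ : IntermediateField K L) L).injective, fun z => ⟨⟨z, IntermediateField.mem_top⟩, rfl⟩⟩

theorem finrank_facts (k : Type v) [CommRing k] (K L : Type u) [Field K] [Field L] [Algebra k K] [Algebra k L]
    [Algebra K L] [IsScalarTower k K L] [Algebra.EssFiniteType K L] :
    Module.Finite L (Ω[L⁄K]) ∧ Module.Finite L (LinearMap.ker (KaehlerDifferential.mapBaseChange k K L)) ∧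
      (Cardinal.toNat (Algebra.trdeg K L) : ℤ) ≤ (Module.finrank L (Ω[L⁄K]) : ℤ) -
        Module.finrank L (LinearMap.ker (KaehlerDifferential.mapBaseChange k K L)) ∧
      (Sharp.{v, u} k → (Module.finrank L (Ω[L⁄K]) : ℤ) -
        Module.finrank L (LinearMap.ker (KaehlerDifferential.mapBaseChange k K L)) = Cardinal.toNat (Algebra.trdeg K L)) := by
  obtain ⟨n, t, ⟨hk, hc, hn⟩, ht, hle, heq⟩ := good_of_essFiniteType k K L
  have hex := KaehlerDifferential.exact_mapBaseChange_map k K L
  let e : (Ω[L⁄k] ⧸ LinearMap.range (KaehlerDifferential.mapBaseChange k K L)) ≃ₗ[L] Ω[L⁄K] :=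
    (Submodule.quotEquivOfEq _ _ (LinearMap.exact_iff.mp hex).symm).trans
      (LinearMap.quotKerEquivOfSurjective _ (KaehlerDifferential.map_surjective k K L))
  rw [← e.finrank_eq, ht, Cardinal.toNat_natCast, hn]
  exact ⟨Module.Finite.equiv e, hk, hle, fun hs => heq hs⟩

theorem sharp_int : Sharp.{0, u} ℤ := by
  intro K B M _ _ _ iK iB _ _ _ _ hsurj
  obtain rfl : iB = Ring.toIntAlgebra B := Subsingleton.elim _ _
  obtain rfl : iK = Ring.toIntAlgebra K := Subsingleton.elim _ _
  letI : Algebra K M := ((algebraMap B M).comp (algebraMap K B)).toAlgebra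
  obtain ⟨k₀, _, _, _, htow, hperf⟩ : ∃ (k₀ : Type u) (_ : Field k₀) (_ : Algebra k₀ K) (_ : Algebra k₀ B)
      (_ : IsScalarTower k₀ K B), PerfectField k₀ := by
    obtain ⟨p, hp⟩ := CharP.exists K
    rcases CharP.char_is_prime_or_zero K p with hp' | rfl
    · have := Fact.mk hp'
      let g : ULift.{u} (ZMod p) →+* K := (ZMod.castHom (dvd_refl p) K).comp ULift.ringEquiv.toRingHom
      letI := g.toAlgebra
      letI := ((algebraMap K B).comp g).toAlgebra
      exact ⟨ULift.{u} (ZMod p), inferInstance, inferInstance, inferInstance, .of_algebraMap_eq fun _ => rfl, inferInstance⟩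
    · haveI : CharZero K := CharP.charP_to_charZero _
      haveI : CharZero (ULift.{u} ℚ) :=
        charZero_of_injective_ringHom (f := ULift.ringEquiv.symm.toRingHom (R := ℚ)) ULift.ringEquiv.symm.injective
      let g : ULift.{u} ℚ →+* K := (algebraMap ℚ K).comp ULift.ringEquiv.toRingHom
      letI := g.toAlgebra
      letI := ((algebraMap K B).comp g).toAlgebra
      exact ⟨ULift.{u} ℚ, inferInstance, inferInstance, inferInstance, .of_algebraMap_eq fun _ => rfl, inferInstance⟩
  letI : Algebra k₀ M := ((algebraMap B M).comp (algebraMap k₀ B)).toAlgebra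
  haveI : IsScalarTower k₀ B M := .of_algebraMap_eq fun _ => rfl
  haveI : Algebra.FormallySmooth k₀ K := (PBasis.formallySmooth_iff_geometricallyReduced k₀ K).mpr
    (PBasis.geometricallyReduced_of_perfectField k₀ K)
  haveI : Algebra.FormallySmooth k₀ B := .comp k₀ K B
  haveI : Algebra.FormallySmooth k₀ M := (PBasis.formallySmooth_iff_geometricallyReduced k₀ M).mpr
    (PBasis.geometricallyReduced_of_perfectField k₀ M)
  obtain ⟨l, hl⟩ := (Algebra.FormallySmooth.iff_split_injection hsurj).mp ‹Algebra.FormallySmooth k₀ M›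
  let T := (KaehlerDifferential.map ℤ k₀ B B).baseChange M
  refine Function.Injective.of_comp (f := T) ?_
  have h : ∀ y, T (KaehlerDifferential.kerCotangentToTensor ℤ B M y) = KaehlerDifferential.kerCotangentToTensor k₀ B M y := fun y => by
    obtain ⟨y, rfl⟩ := Ideal.toCotangent_surjective _ y
    simp [T]
  rw [show ⇑T ∘ ⇑(KaehlerDifferential.kerCotangentToTensor ℤ B M) = ⇑(KaehlerDifferential.kerCotangentToTensor k₀ B M) from funext h]
  exact Function.LeftInverse.injective (g := l) fun y => DFunLike.congr_fun hl y

end Groth.Agent.Alg.Cartier
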