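import Mathlib.LinearAlgebra.TensorProduct.RightExactness
import Mathlib.LinearAlgebra.FiniteDimensional.Basic
import Mathlib.LinearAlgebra.Dimension.Constructions
import Mathlib.RingTheory.TensorProduct.Finite
import Mathlib.LinearAlgebra.FreeModule.Basic
import Mathlib.RingTheory.Flat.Basic
import Mathlib.LinearAlgebra.Dimension.RankNullity
import Mathlib.LinearAlgebra.FiniteDimensional.Lemmas

/-! Index `dim coker - dim ker` of linear maps between vector spaces. -/

open TensorProduct

namespace Groth.Agent.Alg.Cartier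

variable {K : Type*} [Field K] {U V W : Type*} [AddCommGroup U] [Module K U] [AddCommGroup V] [Module K V]
  [AddCommGroup W] [Module K W]

/-- `f` has finite dimensional kernel and cokernel, and index `n`. -/
def HasIndex (f : U →ₗ[K] V) (n : ℤ) : Prop :=
  Module.Finite K (LinearMap.ker f) ∧ Module.Finite K (V ⧸ LinearMap.range f) ∧
    (Module.finrank K (V ⧸ LinearMap.range f) : ℤ) - Module.finrank K (LinearMap.ker f) = n

theorem hasIndex_equiv (e : U ≃ₗ[K] V) : HasIndex (e : U →ₗ[K] V) 0 := by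
  have h1 : LinearMap.ker (e : U →ₗ[K] V) = ⊥ := LinearEquiv.ker e
  have h2 : LinearMap.range (e : U →ₗ[K] V) = ⊤ := LinearEquiv.range e
  rw [HasIndex, h1, h2]
  refine ⟨inferInstance, inferInstance, ?_⟩
  rw [Module.finrank_zero_of_subsingleton (R := K) (M := V ⧸ (⊤ : Submodule K V)), finrank_bot]
  simp

theorem hasIndex_comp {f : U →ₗ[K] V} {g : V →ₗ[K] W} {a b : ℤ} (hf : HasIndex f a) (hg : HasIndex g b) :
    HasIndex (g ∘ₗ f) (a + b) := by
  obtain ⟨hkf, hcf, hf⟩ := hf
  obtain ⟨hkg, hcg, hg⟩ := hg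
  let rf := LinearMap.range f
  let kg := LinearMap.ker g
  -- the kernel of the composite
  let u : LinearMap.ker (g ∘ₗ f) →ₗ[K] kg :=
    (f ∘ₗ (LinearMap.ker (g ∘ₗ f)).subtype).codRestrict kg fun x => x.2
  let s : kg →ₗ[K] V ⧸ rf := rf.mkQ ∘ₗ kg.subtype
  have hkeru : Function.Injective (fun x : LinearMap.ker u => (⟨x.1.1, congrArg Subtype.val x.2⟩ : LinearMap.ker f)) := by
    intro x y h
    exact Subtype.ext (Subtype.ext (Subtype.mk.inj h))
  let e₁ : LinearMap.ker u ≃ₗ[K] LinearMap.ker f := LinearEquiv.ofBijective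
    { toFun := fun x => ⟨x.1.1, congrArg Subtype.val x.2⟩
      map_add' := fun _ _ => rfl
      map_smul' := fun _ _ => rfl }
    ⟨hkeru, fun x => ⟨⟨⟨x.1, by simp [LinearMap.mem_ker.mp x.2]⟩, Subtype.ext x.2⟩, rfl⟩⟩
  have hru : LinearMap.range u = LinearMap.ker s := by
    ext y
    constructor
    · rintro ⟨x, rfl⟩
      exact (Submodule.Quotient.mk_eq_zero rf).mpr ⟨x.1, rfl⟩
    · intro hy
      obtain ⟨x, hx⟩ := (Submodule.Quotient.mk_eq_zero rf).mp hy
      exact ⟨⟨x, show g (f x) = 0 by rw [hx]; exact y.2⟩, Subtype.ext hx⟩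
  -- the cokernel of the composite
  have hle : rf ≤ Submodule.comap g (LinearMap.range (g ∘ₗ f)) := by
    rintro _ ⟨x, rfl⟩; exact ⟨x, rfl⟩
  let gb : V ⧸ rf →ₗ[K] W ⧸ LinearMap.range (g ∘ₗ f) := rf.mapQ _ g hle
  have hkgb : LinearMap.ker gb = LinearMap.range s := by
    ext z
    obtain ⟨v, rfl⟩ := rf.mkQ_surjective z
    constructor
    · intro hv
      obtain ⟨x, hx⟩ := (Submodule.Quotient.mk_eq_zero _).mp hv
      refine ⟨⟨v - f x, show g (v - f x) = 0 by rw [map_sub, ← hx]; exact sub_self _⟩, ?_⟩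
      exact (Submodule.Quotient.eq rf).mpr ⟨-x, by rw [map_neg]; change -f x = v - f x - v; abel⟩
    · rintro ⟨w, hw⟩
      rw [← hw]
      change (Submodule.Quotient.mk (g w.1) : W ⧸ LinearMap.range (g ∘ₗ f)) = 0
      rw [w.2, Submodule.Quotient.mk_zero]
  have hrgb : LinearMap.range gb = (LinearMap.range g).map (LinearMap.range (g ∘ₗ f)).mkQ := by
    ext z
    constructor
    · rintro ⟨q, rfl⟩
      obtain ⟨v, rfl⟩ := rf.mkQ_surjective q
      exact ⟨g v, ⟨v, rfl⟩, rfl⟩
    · rintro ⟨_, ⟨v, rfl⟩, rfl⟩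
      exact ⟨rf.mkQ v, rfl⟩
  let e₂ : ((W ⧸ LinearMap.range (g ∘ₗ f)) ⧸ LinearMap.range gb) ≃ₗ[K] W ⧸ LinearMap.range g :=
    (Submodule.quotEquivOfEq _ _ hrgb).trans (Submodule.quotientQuotientEquivQuotient _ _
      (LinearMap.range_comp_le_range f g))
  have hfin1 : Module.Finite K (LinearMap.ker (g ∘ₗ f)) := by
    have : Module.Finite K (LinearMap.ker u) := Module.Finite.equiv e₁.symm
    have : Module.Finite K (LinearMap.ker (g ∘ₗ f) ⧸ LinearMap.ker u) := Module.Finite.equiv u.quotKerEquivRange.symm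
    exact Module.Finite.of_submodule_quotient (LinearMap.ker u)
  have hfin2 : Module.Finite K (W ⧸ LinearMap.range (g ∘ₗ f)) := by
    have : Module.Finite K ((W ⧸ LinearMap.range (g ∘ₗ f)) ⧸ LinearMap.range gb) := Module.Finite.equiv e₂.symm
    have : Module.Finite K (LinearMap.range gb) := Module.Finite.range gb
    exact Module.Finite.of_submodule_quotient (LinearMap.range gb)
  refine ⟨hfin1, hfin2, ?_⟩
  have h1 := u.finrank_range_add_finrank_ker
  have h2 := s.finrank_range_add_finrank_ker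
  have h3 := gb.finrank_range_add_finrank_ker
  have h4 := (LinearMap.range gb).finrank_quotient_add_finrank
  rw [e₁.finrank_eq, hru] at h1
  rw [hkgb] at h3
  rw [e₂.finrank_eq] at h4
  have hf' : (Module.finrank K (V ⧸ rf) : ℤ) - Module.finrank K (LinearMap.ker f) = a := hf
  have hg' : (Module.finrank K (W ⧸ LinearMap.range g) : ℤ) - Module.finrank K kg = b := hg
  omega

theorem hasIndex_baseChange {L : Type*} [Field L] [Algebra K L] {f : U →ₗ[K] V} {n : ℤ} (hf : HasIndex f n) :
    HasIndex (f.baseChange L) n := by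
  obtain ⟨hk, hc, hn⟩ := hf
  let ι := (LinearMap.ker f).subtype
  have hi : Function.Injective (ι.baseChange L) :=
    Module.Flat.lTensor_preserves_injective_linearMap (M := L) ι Subtype.val_injective
  have he : Function.Exact (ι.baseChange L) (f.baseChange L) :=
    Module.Flat.lTensor_exact L (LinearMap.exact_subtype_ker_map f)
  have hex : Function.Exact f (LinearMap.range f).mkQ :=
    LinearMap.exact_iff.mpr (by rw [Submodule.ker_mkQ])
  have he' : Function.Exact (f.baseChange L) ((LinearMap.range f).mkQ.baseChange L) :=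
    Module.Flat.lTensor_exact L hex
  have hs : Function.Surjective ((LinearMap.range f).mkQ.baseChange L) :=
    LinearMap.lTensor_surjective L (Submodule.mkQ_surjective _)
  let e₁ : L ⊗[K] LinearMap.ker f ≃ₗ[L] LinearMap.ker (f.baseChange L) :=
    (LinearEquiv.ofInjective _ hi).trans (LinearEquiv.ofEq _ _ (LinearMap.exact_iff.mp he).symm)
  let e₂ : ((L ⊗[K] V) ⧸ LinearMap.range (f.baseChange L)) ≃ₗ[L] L ⊗[K] (V ⧸ LinearMap.range f) :=
    (Submodule.quotEquivOfEq _ _ (LinearMap.exact_iff.mp he').symm).trans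
      (LinearMap.quotKerEquivOfSurjective _ hs)
  refine ⟨Module.Finite.equiv e₁, Module.Finite.equiv e₂.symm, ?_⟩
  rw [← e₁.finrank_eq, e₂.finrank_eq, Module.finrank_baseChange, Module.finrank_baseChange]
  exact hn

end Groth.Agent.Alg.Cartier
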